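import Mathlib
import Cfsg.Agent.PGroups.Basic
import Cfsg.Agent.Fusion.Tate
import Cfsg.Agent.Transfer.Tate
import Cfsg.Agent.Components.Cores

/-!
# Sylow subgroups whose derived quotient has order `p ^ 2`
-/

set_option autoImplicit false
set_option linter.unusedSectionVars false
set_option linter.style.haveILetI false

namespace Cfsg.Lib.SylowAb

open Subgroup
open scoped Pointwise commutatorElement

universe u

variable {p : ℕ} [hp : Fact p.Prime]

/-- A `p`-group with derived index dividing `p` is commutative. -/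
theorem comm_of_index_dvd {X : Type u} [Group X] [Finite X] (hX : IsPGroup p X)
    (h : (_root_.commutator X).index ∣ p) (a b : X) : a * b = b * a := by
  have hcyc : IsCyclic (X ⧸ _root_.commutator X) := by
    rw [Subgroup.index_eq_card] at h
    rcases (Nat.dvd_prime hp.out).1 h with h1 | h1
    · haveI : Subsingleton (X ⧸ _root_.commutator X) := (Nat.card_eq_one_iff_unique.1 h1).1
      exact isCyclic_of_subsingleton
    · exact isCyclic_of_prime_card h1
  obtain ⟨g, hg⟩ := hcyc.exists_generator
  obtain ⟨x, rfl⟩ := QuotientGroup.mk_surjective g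
  have htop : zpowers x ⊔ frattini X = ⊤ := by
    rw [eq_top_iff]
    intro y _
    obtain ⟨k, hk⟩ := hg (QuotientGroup.mk y)
    have h1 : (x ^ k)⁻¹ * y ∈ _root_.commutator X := QuotientGroup.eq.1 (by simpa using hk)
    rw [show y = x ^ k * ((x ^ k)⁻¹ * y) by group]
    exact mul_mem (mem_sup_left (zpow_mem (mem_zpowers x) k))
      (mem_sup_right (Cfsg.Lib.PGroups.commutator_le_frattini hX h1))
  have hz : zpowers x = ⊤ := frattini_nongenerating htop
  obtain ⟨i, rfl⟩ := (hz ▸ mem_top a : a ∈ zpowers x)
  obtain ⟨j, rfl⟩ := (hz ▸ mem_top b : b ∈ zpowers x)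
  show x ^ i * x ^ j = x ^ j * x ^ i
  rw [← zpow_add, ← zpow_add, add_comm]

theorem commutator_eq_bot_of_index_dvd {X : Type u} [Group X] [Finite X] (hX : IsPGroup p X)
    (h : (_root_.commutator X).index ∣ p) : _root_.commutator X = ⊥ := by
  rw [commutator_eq_closure, closure_eq_bot_iff]
  rintro _ ⟨a, b, rfl⟩
  exact commutatorElement_eq_one_iff_mul_comm.2 (comm_of_index_dvd hX h a b)

/-- A normal subgroup outside the derived group contains it. -/
theorem commutator_le_of_not_le {X : Type u} [Group X] [Finite X] (hX : IsPGroup p X)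
    (h2 : (_root_.commutator X).index = p ^ 2) (M : Subgroup X) [M.Normal]
    (hM : ¬ M ≤ _root_.commutator X) : _root_.commutator X ≤ M := by
  have h1 : (_root_.commutator (X ⧸ M)).index = (_root_.commutator X ⊔ M).index := by
    rw [show _root_.commutator (X ⧸ M) = (_root_.commutator X).map (QuotientGroup.mk' M) by
      rw [_root_.commutator_def, _root_.commutator_def, map_commutator,
        map_top_of_surjective _ (QuotientGroup.mk'_surjective M)], index_map, QuotientGroup.ker_mk',
      MonoidHom.range_eq_top.2 (QuotientGroup.mk'_surjective M), index_top, mul_one]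
  have h3 : (_root_.commutator X ⊔ M).index ∣ p := by
    obtain ⟨j, hj2, hj⟩ := (Nat.dvd_prime_pow hp.out).1
      (h2 ▸ index_dvd_of_le (le_sup_left : _root_.commutator X ≤ _root_.commutator X ⊔ M))
    rw [hj]
    interval_cases j
    · simp
    · simp
    · exfalso
      have h4 := relIndex_mul_index (le_sup_left : _root_.commutator X ≤ _root_.commutator X ⊔ M)
      rw [hj, h2] at h4
      have h5 : (_root_.commutator X).relIndex (_root_.commutator X ⊔ M) = 1 :=
        Nat.eq_of_mul_eq_mul_right (pow_pos hp.out.pos 2) (by rw [h4, one_mul])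
      exact hM (le_sup_right.trans (relIndex_eq_one.1 h5))
  have h6 := comm_of_index_dvd (hX.of_surjective (QuotientGroup.mk' M) (QuotientGroup.mk'_surjective M))
    (h1 ▸ h3)
  exact Subgroup.Normal.quotient_commutative_iff_commutator_le.1 ⟨⟨h6⟩⟩

/-- A quotient generated by a commutative part and one element commuting with it is commutative. -/
theorem commutator_le_of_gen {X : Type u} [Group X] {M D : Subgroup X} [D.Normal] {y : X}
    (htop : M ⊔ zpowers y = ⊤) (hMM : ∀ m ∈ M, ∀ n ∈ M, ⁅m, n⁆ ∈ D) (hMy : ∀ m ∈ M, ⁅m, y⁆ ∈ D) :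
    _root_.commutator X ≤ D := by
  let q := QuotientGroup.mk' D
  have hcomm : ∀ a b : X, ⁅a, b⁆ ∈ D ↔ q a * q b = q b * q a := fun a b => by
    rw [← commutatorElement_eq_one_iff_mul_comm, ← map_commutatorElement, QuotientGroup.mk'_apply,
      QuotientGroup.eq_one_iff]
  have key : ∀ a : X, q a * q y = q y * q a → (∀ m ∈ M, q a * q m = q m * q a) →
      ∀ b : X, q a * q b = q b * q a := by
    intro a hy hM b
    have hle : M ⊔ zpowers y ≤ (centralizer ({q a} : Set (X ⧸ D))).comap q := by
      refine sup_le (fun m hm => ?_) (zpowers_le.2 ?_) <;>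
        rw [mem_comap, mem_centralizer_iff] <;> intro c hc <;> rw [Set.mem_singleton_iff.1 hc]
      · exact hM m hm
      · exact hy
    rw [htop] at hle
    exact (mem_centralizer_iff.1 (hle (mem_top b))) (q a) rfl
  have hM' : ∀ m ∈ M, ∀ b, q m * q b = q b * q m := fun m hm =>
    key m ((hcomm m y).1 (hMy m hm)) fun n hn => (hcomm m n).1 (hMM m hm n hn)
  have hy' : ∀ b, q y * q b = q b * q y := key y rfl fun n hn => (hM' n hn y).symm
  have hall : ∀ a b : X, q a * q b = q b * q a := fun a =>
    key a (hy' a).symm fun n hn => (hM' n hn a).symm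
  rw [commutator_eq_closure, closure_le]
  rintro _ ⟨a, b, rfl⟩
  exact (hcomm a b).2 (hall a b)

/-- An abelian normal subgroup of index `p`. -/
theorem card_centralizer_eq {X : Type u} [Group X] [Finite X]
    (h2 : (_root_.commutator X).index = p ^ 2) (M : Subgroup X) [M.Normal]
    (hab : ∀ a ∈ M, ∀ b ∈ M, a * b = b * a) (hle : _root_.commutator X ≤ M) (hidx : M.index = p)
    {y : X} (hy : y ∉ M) : Nat.card (centralizer ({y} : Set X)) = p ^ 2 := by
  have htop : M ⊔ zpowers y = ⊤ := by
    have h1 := relIndex_mul_index (le_sup_left : M ≤ M ⊔ zpowers y)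
    rcases (Nat.dvd_prime hp.out).1 (hidx ▸ index_dvd_of_le (le_sup_left : M ≤ M ⊔ zpowers y)) with h | h
    · exact index_eq_one.1 h
    · exfalso
      rw [h, hidx] at h1
      have h3 : M.relIndex (M ⊔ zpowers y) = 1 := Nat.eq_of_mul_eq_mul_right hp.out.pos (by rw [h1, one_mul])
      exact hy (relIndex_eq_one.1 h3 (mem_sup_right (mem_zpowers y)))
  have hcM : ∀ m : M, ⁅(m : X), y⁆ ∈ M := fun m =>
    hle (commutator_mem_commutator (mem_top _) (mem_top _))
  let φ : M →* M := MonoidHom.mk' (fun m => ⟨⁅(m : X), y⁆, hcM m⟩) fun m n => Subtype.ext (by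
    show ⁅((m * n : M) : X), y⁆ = ⁅(m : X), y⁆ * ⁅(n : X), y⁆
    rw [Subgroup.coe_mul,
      show ⁅(m : X) * n, y⁆ = m * ⁅(n : X), y⁆ * (m : X)⁻¹ * ⁅(m : X), y⁆ by
        simp only [commutatorElement_def]; group,
      hab _ m.2 _ (hcM n), mul_inv_cancel_right, hab _ (hcM n) _ (hcM m)])
  set I : Subgroup X := φ.range.map M.subtype with hI
  have hIM : I ≤ M := map_subtype_le _
  haveI : I.Normal := by
    rw [← normalizer_eq_top_iff, eq_top_iff, ← htop, sup_le_iff]
    refine ⟨fun m hm => centralizer_le_normalizer _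
      (mem_centralizer_iff.2 fun i hi => hab i (hIM hi) m hm), zpowers_le.2 ?_⟩
    have hconj : I.map (MulAut.conj y).toMonoidHom ≤ I := by
      rintro _ ⟨_, ⟨_, ⟨m, rfl⟩, rfl⟩, rfl⟩
      refine ⟨φ ⟨y * m * y⁻¹, ‹M.Normal›.conj_mem _ m.2 y⟩, ⟨_, rfl⟩, ?_⟩
      show ⁅y * (m : X) * y⁻¹, y⁆ = y * ⁅(m : X), y⁆ * y⁻¹
      simp only [commutatorElement_def]
      group
    have heq := Subgroup.eq_of_le_of_card_ge hconj
      (le_of_eq (Subgroup.card_map_of_injective (MulAut.conj y).injective).symm)
    rw [mem_normalizer_iff]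
    intro z
    constructor
    · intro hz
      exact hconj ⟨z, hz, rfl⟩
    · intro hz
      rw [← heq] at hz
      obtain ⟨w, hw, hwz⟩ := hz
      exact (MulAut.conj y).injective hwz ▸ hw
  have hI' : I = _root_.commutator X := by
    refine le_antisymm ?_ (commutator_le_of_gen htop (fun m hm n hn => ?_) fun m hm => ?_)
    · rintro _ ⟨_, ⟨m, rfl⟩, rfl⟩
      exact commutator_mem_commutator (mem_top _) (mem_top _)
    · rw [commutatorElement_eq_one_iff_mul_comm.2 (hab m hm n hn)]
      exact one_mem _
    · exact ⟨φ ⟨m, hm⟩, ⟨_, rfl⟩, rfl⟩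
  have hker : Nat.card φ.ker = p := by
    have h1 := φ.ker.card_mul_index
    rw [Subgroup.index_ker, ← Subgroup.card_map_of_injective (K := φ.range) M.subtype_injective, ← hI,
      hI'] at h1
    have h3 := (_root_.commutator X).card_mul_index
    have h4 := M.card_mul_index
    rw [h2] at h3
    rw [hidx, ← h1] at h4
    have h5 : Nat.card φ.ker * p * Nat.card (_root_.commutator X) =
        p * p * Nat.card (_root_.commutator X) := by
      calc _ = Nat.card φ.ker * Nat.card (_root_.commutator X) * p := by ring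
        _ = Nat.card X := h4
        _ = _ := by rw [← h3]; ring
    exact Nat.eq_of_mul_eq_mul_right hp.out.pos (Nat.eq_of_mul_eq_mul_right Nat.card_pos h5)
  set C := centralizer ({y} : Set X) with hC
  have hrel : M.relIndex C = p := by
    rw [← relIndex_sup_right (H := C) (K := M), ← hidx, ← relIndex_top_right M]
    congr 1
    rw [eq_top_iff, ← htop]
    exact sup_le le_sup_right (zpowers_le.2 (mem_sup_left
      (mem_centralizer_iff.2 fun c hc => by rw [Set.mem_singleton_iff.1 hc])))
  have hMC : Nat.card (M.subgroupOf C) = Nat.card φ.ker := by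
    refine Nat.card_congr
      { toFun := fun z => ⟨⟨((z : C) : X), z.2⟩, ?_⟩
        invFun := fun m => ⟨⟨((m : M) : X), ?_⟩, (m : M).2⟩
        left_inv := fun z => rfl
        right_inv := fun m => rfl }
    · rw [MonoidHom.mem_ker]
      exact Subtype.ext (commutatorElement_eq_one_iff_mul_comm.2
        ((mem_centralizer_iff.1 (z : C).2) y rfl).symm)
    · refine mem_centralizer_iff.2 fun c hc => ?_
      rw [Set.mem_singleton_iff.1 hc]
      exact (commutatorElement_eq_one_iff_mul_comm.1 (congrArg Subtype.val (MonoidHom.mem_ker.1 m.2))).symm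
  rw [← (M.subgroupOf C).card_mul_index, hMC, hker]
  show p * M.relIndex C = p ^ 2
  rw [hrel, sq]

variable {G : Type u} [Group G] [Finite G]

theorem commutator_subgroupOf (P : Subgroup G) : (⁅P, P⁆).subgroupOf P = _root_.commutator P := by
  rw [← Subgroup.map_subtype_commutator, subgroupOf, comap_map_eq_self_of_injective P.subtype_injective]

theorem commutator_index (P : Subgroup G) : (⁅P, P⁆).relIndex P = (_root_.commutator P).index := by
  rw [relIndex, commutator_subgroupOf]

/-- A small centraliser gives derived index `p ^ 2`. -/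
theorem relIndex_eq_of_centralizer (P : Sylow p G) (hbig : p ^ 2 ∣ Nat.card G) {x : G}
    (hx : ∃ k : ℕ, orderOf x = p ^ k)
    (hc : (Nat.card (centralizer ({x} : Set G))).factorization p = 2) :
    (⁅(P : Subgroup G), (P : Subgroup G)⁆).relIndex (P : Subgroup G) = p ^ 2 := by
  classical
  obtain ⟨k, hk⟩ := hx
  set C := centralizer ({x} : Set G) with hC
  have hxC : x ∈ C := mem_centralizer_iff.2 fun c hc => by rw [Set.mem_singleton_iff.1 hc]
  obtain ⟨R⟩ : Nonempty (Sylow p C) := inferInstance
  set R' := (R : Subgroup C).map C.subtype with hR'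
  have hxp : IsPGroup p (zpowers x) := IsPGroup.of_card ((Nat.card_zpowers x).trans hk)
  have hzR : zpowers (⟨x, hxC⟩ : C) ≤ (R : Subgroup C) := by
    haveI : (zpowers (⟨x, hxC⟩ : C)).Normal := ⟨fun z hz g => by
      obtain ⟨i, rfl⟩ := hz
      have h1 : g * ⟨x, hxC⟩ = ⟨x, hxC⟩ * g :=
        Subtype.ext ((mem_centralizer_iff.1 g.2) x rfl).symm
      show g * (⟨x, hxC⟩ : C) ^ i * g⁻¹ ∈ zpowers (⟨x, hxC⟩ : C)
      rw [((show Commute g ⟨x, hxC⟩ from h1).zpow_right i).eq, mul_inv_cancel_right]
      exact zpow_mem (mem_zpowers _) i⟩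
    have h1 : IsPGroup p (zpowers (⟨x, hxC⟩ : C)) :=
      IsPGroup.of_card ((Nat.card_zpowers _).trans (by rw [Subgroup.orderOf_mk]; exact hk))
    have h2 := R.is_maximal' (R.isPGroup'.to_sup_of_normal_right h1) le_sup_left
    exact h2 ▸ le_sup_right
  have hxR : x ∈ R' := ⟨⟨x, hxC⟩, hzR (mem_zpowers _), rfl⟩
  obtain ⟨S, hS⟩ := (R.isPGroup'.map C.subtype).exists_le_sylow
  obtain ⟨g, hg⟩ := MulAction.exists_smul_eq G S P
  set x' := g * x * g⁻¹ with hx'
  have hmem : ∀ z ∈ R', g * z * g⁻¹ ∈ (P : Subgroup G) := fun z hz => by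
    rw [← hg]
    exact ⟨z, hS hz, rfl⟩
  have hx'P : x' ∈ (P : Subgroup G) := hmem x hxR
  let X' : (P : Subgroup G) := ⟨x', hx'P⟩
  set D := centralizer ({X'} : Set (P : Subgroup G)) with hD
  have hR'card : Nat.card R' = p ^ 2 := by
    rw [hR', Subgroup.card_map_of_injective C.subtype_injective, R.card_eq_multiplicity, hc]
  have hDcard : Nat.card D ≤ p ^ 2 := by
    -- pull back into the centraliser of `x`
    let f : D →* C :=
      { toFun := fun d => ⟨g⁻¹ * ((d : (P : Subgroup G)) : G) * g, mem_centralizer_iff.2 fun c hc => by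
          rw [Set.mem_singleton_iff.1 hc]
          have h1 : x' * ((d : (P : Subgroup G)) : G) = ((d : (P : Subgroup G)) : G) * x' :=
            congrArg Subtype.val (mem_centralizer_iff.1 d.2 X' rfl)
          calc x * (g⁻¹ * _ * g) = g⁻¹ * (x' * ((d : (P : Subgroup G)) : G)) * g := by rw [hx']; group
            _ = g⁻¹ * (((d : (P : Subgroup G)) : G) * x') * g := by rw [h1]
            _ = _ := by rw [hx']; group⟩
        map_one' := Subtype.ext (by simp)
        map_mul' := fun a b => Subtype.ext (by
          show g⁻¹ * (((a * b : D) : (P : Subgroup G)) : G) * g = _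
          simp only [Subgroup.coe_mul]
          group) }
    have hinj : Function.Injective f := fun a b h => by
      have h1 := congrArg Subtype.val h
      exact Subtype.ext (Subtype.ext (mul_left_cancel (mul_right_cancel h1)))
    have hDp : IsPGroup p (⊤ : Subgroup D) := (P.isPGroup'.to_subgroup D).to_subgroup ⊤
    obtain ⟨T, hT⟩ := (hDp.map f).exists_le_sylow
    have h2 := Nat.le_of_dvd Nat.card_pos (Subgroup.card_dvd_of_le
      (show (⊤ : Subgroup D).map f ≤ (T : Subgroup C) by simpa using hT))
    rw [Subgroup.card_map_of_injective hinj, Subgroup.card_top, T.card_eq_multiplicity, hc] at h2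
    exact h2
  have hDC : Nat.card (P : Subgroup G) ≤ p ^ 2 * Nat.card (_root_.commutator (P : Subgroup G)) := by
    rw [← D.card_mul_index]
    refine Nat.mul_le_mul hDcard ?_
    rw [Subgroup.index_eq_card]
    let h : (P : Subgroup G) ⧸ D → _root_.commutator (P : Subgroup G) := Quotient.lift
      (fun z => (⟨⁅z, X'⁆, commutator_mem_commutator (mem_top _) (mem_top _)⟩ :
        _root_.commutator (P : Subgroup G))) (fun a b hab => by
        have h1 : a⁻¹ * b ∈ D := QuotientGroup.leftRel_apply.1 hab
        apply Subtype.ext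
        show ⁅a, X'⁆ = ⁅b, X'⁆
        have h2 := mem_centralizer_iff.1 h1 X' rfl
        rw [show b = a * (a⁻¹ * b) by group]
        simp only [commutatorElement_def]
        calc a * X' * a⁻¹ * X'⁻¹ = a * ((X' * (a⁻¹ * b)) * (a⁻¹ * b)⁻¹) * a⁻¹ * X'⁻¹ := by group
          _ = a * (((a⁻¹ * b) * X') * (a⁻¹ * b)⁻¹) * a⁻¹ * X'⁻¹ := by rw [h2]
          _ = _ := by group)
    refine Nat.card_le_card_of_injective h ?_
    intro a b
    induction a using Quotient.inductionOn with
    | _ a =>
      induction b using Quotient.inductionOn with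
      | _ b =>
        intro hab
        have h1 : ⁅a, X'⁆ = ⁅b, X'⁆ := congrArg Subtype.val hab
        refine Quotient.sound (QuotientGroup.leftRel_apply.2 (mem_centralizer_iff.2 fun c hc => ?_))
        rw [Set.mem_singleton_iff.1 hc]
        simp only [commutatorElement_def] at h1
        have h2 := mul_right_cancel h1
        calc X' * (a⁻¹ * b) = a⁻¹ * (a * X' * a⁻¹) * b := by group
          _ = a⁻¹ * (b * X' * b⁻¹) * b := by rw [h2]
          _ = a⁻¹ * b * X' := by group
  rw [commutator_index]
  obtain ⟨n, hn⟩ := IsPGroup.iff_card.1 P.isPGroup'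
  have h3 := (_root_.commutator (P : Subgroup G)).card_mul_index
  obtain ⟨j, -, hj⟩ := (Nat.dvd_prime_pow hp.out).1 (hn ▸ (_root_.commutator (P : Subgroup G)).index_dvd_card)
  rw [hj] at h3 ⊢
  have hj2 : j ≤ 2 := by
    rw [← h3, mul_comm] at hDC
    exact (Nat.pow_le_pow_iff_right hp.out.one_lt).1 (Nat.le_of_mul_le_mul_right hDC Nat.card_pos)
  congr 1
  interval_cases j
  all_goals first
    | rfl
    | (exfalso
       have h4 := commutator_eq_bot_of_index_dvd (p := p) P.isPGroup' (by rw [hj]; simp)
       have h5 : 2 ≤ (Nat.card G).factorization p :=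
         (hp.out.pow_dvd_iff_le_factorization Nat.card_pos.ne').1 hbig
       rw [P.card_eq_multiplicity, h4, Subgroup.card_bot, one_mul] at h3
       have := Nat.pow_right_injective hp.out.two_le h3
       omega)

end Cfsg.Lib.SylowAb
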