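import Mathlib
import Cfsg.Agent.Blocks.SylowAb.Basic
import Cfsg.Agent.Components.PComponents
import Cfsg.Agent.Coprime.Hall

/-!
# The smallest normal subgroups inside a minimal normal subgroup
-/

set_option autoImplicit false
set_option linter.unusedSectionVars false
set_option linter.style.haveILetI false

namespace Cfsg.Lib.SylowAb

open Subgroup
open scoped Pointwise commutatorElement

universe u

variable {G : Type u} [Group G] [Finite G]

/-- A minimal non-trivial subgroup normalised by `N`. -/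
structure Atom (N T : Subgroup G) : Prop where
  ne : T ≠ ⊥
  le : T ≤ N
  norm : N ≤ normalizer (T : Set G)
  min : ∀ X : Subgroup G, X ≤ T → N ≤ normalizer (X : Set G) → X = ⊥ ∨ X = T

/-- The conjugate of a subgroup. -/
def cj (g : G) (T : Subgroup G) : Subgroup G := T.map (MulAut.conj g).toMonoidHom

theorem mem_cj {g z : G} {T : Subgroup G} : z ∈ cj g T ↔ g⁻¹ * z * g ∈ T := by
  constructor
  · rintro ⟨w, hw, rfl⟩
    simpa [mul_assoc] using hw
  · intro h
    exact ⟨g⁻¹ * z * g, h, by simp [mul_assoc]⟩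

theorem cj_one (T : Subgroup G) : cj 1 T = T := by ext z; simp [mem_cj]

theorem cj_mul (a b : G) (T : Subgroup G) : cj (a * b) T = cj a (cj b T) := by
  ext z
  simp only [mem_cj, mul_inv_rev, mul_assoc]

theorem cj_eq_of_mem {g : G} {T : Subgroup G} (h : g ∈ normalizer (T : Set G)) : cj g T = T := by
  ext z
  rw [mem_cj]
  exact (mem_normalizer_iff''.1 h z).symm

theorem mem_normalizer_of_cj {g : G} {T : Subgroup G} (h : cj g T = T) :
    g ∈ normalizer (T : Set G) :=
  mem_normalizer_iff''.2 fun z => by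
    conv_lhs => rw [← h]
    exact mem_cj

variable {N : Subgroup G} [hN : N.Normal]

theorem exists_atom (hne : N ≠ ⊥) : ∃ T, Atom N T := by
  obtain ⟨T, ⟨h1, h2, h3⟩, hmin⟩ := WellFounded.has_min (wellFounded_lt (α := Subgroup G))
    {T | T ≠ ⊥ ∧ T ≤ N ∧ N ≤ normalizer (T : Set G)} ⟨N, hne, le_rfl, Subgroup.le_normalizer⟩
  refine ⟨T, h1, h2, h3, fun X hX hXn => ?_⟩
  by_cases hb : X = ⊥
  · exact Or.inl hb
  · exact Or.inr (by_contra fun h => hmin X ⟨hb, hX.trans h2, hXn⟩ (lt_of_le_of_ne hX h))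

theorem norm_cj {T : Subgroup G} (h : N ≤ normalizer (T : Set G)) (g : G) :
    N ≤ normalizer (cj g T : Set G) := fun n hn => by
  have h1 : g⁻¹ * n * g ∈ normalizer (T : Set G) := h (by
    simpa using hN.conj_mem n hn g⁻¹)
  refine mem_normalizer_iff''.2 fun z => ?_
  rw [mem_cj, mem_cj, mem_normalizer_iff''.1 h1 (g⁻¹ * z * g)]
  simp [mul_assoc]

theorem Atom.cj {T : Subgroup G} (h : Atom N T) (g : G) : Atom N (cj g T) := by
  refine ⟨fun hb => h.ne ?_, ?_, norm_cj h.norm g, fun X hX hXn => ?_⟩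
  · exact (Subgroup.map_eq_bot_iff_of_injective _ (MulAut.conj g).injective).1 hb
  · rintro _ ⟨z, hz, rfl⟩
    exact hN.conj_mem z (h.le hz) g
  · have h1 : SylowAb.cj g⁻¹ X ≤ T := fun z hz => by
      have h2 := mem_cj.1 (hX (mem_cj.1 hz))
      simpa [mul_assoc] using h2
    have h3 : X = SylowAb.cj g (SylowAb.cj g⁻¹ X) := by rw [← cj_mul, mul_inv_cancel, cj_one]
    rcases h.min _ h1 (norm_cj hXn g⁻¹) with h4 | h4
    · refine Or.inl ?_
      rw [h3, h4]
      exact Subgroup.map_bot _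
    · exact Or.inr (h3.trans (by rw [h4]))

theorem Atom.inf_eq {T V : Subgroup G} (hT : Atom N T) (hV : Atom N V) (hne : T ≠ V) : T ⊓ V = ⊥ := by
  have hn : N ≤ normalizer ((T ⊓ V : Subgroup G) : Set G) := fun n hn => mem_normalizer_iff.2 fun z => by
    simp only [mem_inf, mem_normalizer_iff.1 (hT.norm hn) z, mem_normalizer_iff.1 (hV.norm hn) z]
  rcases hT.min _ inf_le_left hn with h | h
  · exact h
  · exfalso
    rcases hV.min T (h ▸ inf_le_right) hT.norm with h1 | h1
    · exact hT.ne h1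
    · exact hne h1

theorem Atom.commute {T V : Subgroup G} (hT : Atom N T) (hV : Atom N V) (hne : T ≠ V) {a b : G}
    (ha : a ∈ T) (hb : b ∈ V) : a * b = b * a := by
  have h : a * b * a⁻¹ * b⁻¹ ∈ T ⊓ V := by
    refine ⟨?_, V.mul_mem ((mem_normalizer_iff.1 (hV.norm (hT.le ha)) b).1 hb) (V.inv_mem hb)⟩
    rw [show a * b * a⁻¹ * b⁻¹ = a * (b * a⁻¹ * b⁻¹) by group]
    exact T.mul_mem ha ((mem_normalizer_iff.1 (hT.norm (hV.le hb)) a⁻¹).1 (T.inv_mem ha))
  rw [hT.inf_eq hV hne, mem_bot, mul_inv_eq_one, mul_inv_eq_iff_eq_mul] at h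
  exact h

variable {T : Subgroup G}

/-- The orbit of an atom. -/
def orb (T : Subgroup G) : Set (Subgroup G) := Set.range fun g => cj g T

theorem mem_orb_self : T ∈ orb T := ⟨1, cj_one T⟩

theorem Atom.of_mem (h : Atom N T) {V : Subgroup G} (hV : V ∈ orb T) : Atom N V := by
  obtain ⟨g, rfl⟩ := hV
  exact h.cj g

theorem Atom.sSup_le (h : Atom N T) {Γ : Set (Subgroup G)} (hΓ : Γ ⊆ orb T) : sSup Γ ≤ N :=
  _root_.sSup_le fun _ hV => (h.of_mem (hΓ hV)).le

theorem Atom.norm_sSup (h : Atom N T) {Γ : Set (Subgroup G)} (hΓ : Γ ⊆ orb T) :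
    N ≤ normalizer ((sSup Γ : Subgroup G) : Set G) := fun n hn => by
  refine mem_normalizer_of_cj (le_antisymm ?_ ?_)
  · rw [SylowAb.cj, Subgroup.map_le_iff_le_comap]
    refine _root_.sSup_le fun V hV => ?_
    rw [← Subgroup.map_le_iff_le_comap]
    exact (cj_eq_of_mem ((h.of_mem (hΓ hV)).norm hn)).le.trans (_root_.le_sSup hV)
  · refine _root_.sSup_le fun V hV => ?_
    conv_lhs => rw [← cj_eq_of_mem ((h.of_mem (hΓ hV)).norm hn)]
    exact Subgroup.map_mono (_root_.le_sSup hV)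

theorem norm_sSup_of_stable {Γ : Set (Subgroup G)} {g : G} (h1 : ∀ V ∈ Γ, cj g V ∈ Γ) :
    g ∈ normalizer ((sSup Γ : Subgroup G) : Set G) := by
  refine mem_normalizer_of_cj ?_
  refine Subgroup.eq_of_le_of_card_ge ?_ (le_of_eq (Subgroup.card_map_of_injective (MulAut.conj g).injective).symm)
  rw [cj, Subgroup.map_le_iff_le_comap]
  refine _root_.sSup_le fun V hV => ?_
  rw [← Subgroup.map_le_iff_le_comap]
  exact _root_.le_sSup (h1 V hV)

/-- The standing hypotheses. -/
structure MinNA (N : Subgroup G) : Prop where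
  ne : N ≠ ⊥
  min : ∀ M : Subgroup G, M.Normal → M ≤ N → M = ⊥ ∨ M = N
  na : ¬ ∀ a ∈ N, ∀ b ∈ N, a * b = b * a

theorem MinNA.sSup_orb (hm : MinNA N) (h : Atom N T) : sSup (orb T) = N := by
  have hn : (sSup (orb T)).Normal := by
    rw [← normalizer_eq_top_iff, eq_top_iff]
    intro g _
    refine norm_sSup_of_stable ?_
    rintro _ ⟨b, rfl⟩
    exact ⟨g * b, cj_mul g b T⟩
  rcases hm.min _ hn (h.sSup_le subset_rfl) with h1 | h1
  · exact absurd (le_bot_iff.1 (h1 ▸ _root_.le_sSup (mem_orb_self (T := T)))) h.ne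
  · exact h1

theorem MinNA.center_eq_bot (hm : MinNA N) : N ⊓ centralizer (N : Set G) = ⊥ := by
  rcases hm.min (N ⊓ centralizer (N : Set G)) inferInstance inf_le_left with h | h
  · exact h
  · exact absurd (fun a ha b hb => (mem_centralizer_iff.1 (h.ge hb).2 a ha)) hm.na

/-- Complementary joins meet trivially. -/
theorem MinNA.inf_sSup (hm : MinNA N) (h : Atom N T) {Γ Δ : Set (Subgroup G)} (hΓ : Γ ⊆ orb T)
    (hΔ : Δ ⊆ orb T) (hd : ∀ V ∈ Γ, V ∉ Δ) : sSup Γ ⊓ sSup Δ = ⊥ := by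
  rw [eq_bot_iff, ← hm.center_eq_bot]
  refine le_inf (inf_le_left.trans (h.sSup_le hΓ)) ?_
  conv_rhs => rw [← hm.sSup_orb h]
  rw [le_centralizer_iff]
  refine _root_.sSup_le fun V hV => ?_
  rw [le_centralizer_iff]
  have key : ∀ Ψ : Set (Subgroup G), Ψ ⊆ orb T → V ∉ Ψ → sSup Ψ ≤ centralizer (V : Set G) :=
    fun Ψ hΨ hVΨ => _root_.sSup_le fun W hW => fun w hw => mem_centralizer_iff.2 fun v hv =>
      (h.of_mem hV).commute (h.of_mem (hΨ hW)) (fun e => hVΨ (e ▸ hW)) hv hw
  by_cases hVΓ : V ∈ Γ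
  · exact inf_le_right.trans (key Δ hΔ (hd V hVΓ))
  · exact inf_le_left.trans (key Γ hΓ hVΓ)

variable {p : ℕ} [hp : Fact p.Prime]

/-- No `p'`-subgroup of `N` is normalised by `N`. -/
theorem eq_bot_of_coprime (hcore : Cfsg.pPrimeCore p G = ⊥) {X : Subgroup G} (hX : X ≤ N)
    (hXn : N ≤ normalizer (X : Set G)) (hc : (Nat.card X).Coprime p) : X = ⊥ := by
  haveI : (X.subgroupOf N).Normal := Subgroup.normal_subgroupOf_of_le_normalizer hXn
  have h1 : X.subgroupOf N ≤ Cfsg.pPrimeCore p N :=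
    Cfsg.Lib.Components.le_pPrimeCore (by rwa [Nat.card_congr (Subgroup.subgroupOfEquivOfLe hX).toEquiv])
  haveI : (Cfsg.pPrimeCore p N).Characteristic := Cfsg.Lib.Components.pPrimeCore_characteristic
  have h2 : (Cfsg.pPrimeCore p N).map N.subtype ≤ Cfsg.pPrimeCore p G :=
    Cfsg.Lib.Components.le_pPrimeCore (by
      rw [Subgroup.card_map_of_injective N.subtype_injective]
      exact Cfsg.Lib.Components.coprime_card_pPrimeCore p)
  rw [hcore, le_bot_iff, Subgroup.map_eq_bot_iff_of_injective _ N.subtype_injective] at h2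
  rw [h2, le_bot_iff, subgroupOf_eq_bot, disjoint_iff, inf_eq_left.2 hX] at h1
  exact h1

theorem MinNA.not_isPGroup (hm : MinNA N) : ¬ IsPGroup p N := fun h => by
  haveI : Group.IsNilpotent N := h.isNilpotent
  haveI : Group.IsSolvable N := inferInstance
  exact hm.na fun a ha b hb => congrArg Subtype.val
    ((Cfsg.Lib.Coprime.minimal_normal_solvable inferInstance hm.ne hm.min).1.is_comm.comm ⟨a, ha⟩ ⟨b, hb⟩)

theorem MinNA.atom_not_isPGroup (hm : MinNA N) (h : Atom N T) : ¬ IsPGroup p T := fun hT => by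
  obtain ⟨S⟩ : Nonempty (Sylow p N) := inferInstance
  have key : ∀ V ∈ orb T, V ≤ (S : Subgroup N).map N.subtype := fun V hV => by
    haveI : (V.subgroupOf N).Normal := Subgroup.normal_subgroupOf_of_le_normalizer (h.of_mem hV).norm
    have hVp : IsPGroup p (V.subgroupOf N) := by
      obtain ⟨g, rfl⟩ := hV
      exact (hT.map (MulAut.conj g).toMonoidHom).of_injective
        (Subgroup.subgroupOfEquivOfLe (h.cj g).le).toMonoidHom (MulEquiv.injective _)
    have h2 := S.is_maximal' (S.isPGroup'.to_sup_of_normal_right hVp) le_sup_left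
    intro z hz
    exact ⟨⟨z, (h.of_mem hV).le hz⟩, (h2 ▸ le_sup_right) (show (⟨z, _⟩ : N) ∈ V.subgroupOf N from hz), rfl⟩
  refine hm.not_isPGroup (p := p) ((S.isPGroup'.map N.subtype).to_le ?_)
  conv_lhs => rw [← hm.sSup_orb h]
  exact _root_.sSup_le key

/-- Tate: a normalised join meets `P` outside the derived group. -/
theorem not_le_derived (hcore : Cfsg.pPrimeCore p G = ⊥) (P : Sylow p G) {J : Subgroup G}
    (hJ : J ≤ N) (hJN : N ≤ normalizer (J : Set G)) (hJP : (P : Subgroup G) ≤ normalizer (J : Set G))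
    (hJp : ¬ IsPGroup p J) : ¬ J ⊓ (P : Subgroup G) ≤ ⁅(P : Subgroup G), (P : Subgroup G)⁆ := by
  intro hle
  set H := normalizer (J : Set G) with hH
  have hJH : J ≤ H := Subgroup.le_normalizer
  haveI : (J.subgroupOf H).Normal := Subgroup.normal_subgroupOf_of_le_normalizer le_rfl
  set PH : Sylow p H := P.subtype hJP with hPH
  have h1 : J.subgroupOf H ⊓ (PH : Subgroup H) ≤ (frattini PH).map (PH : Subgroup H).subtype := by
    refine le_trans ?_ (Cfsg.Lib.Fusion.commutator_le_frattini (S := (PH : Subgroup H)) PH.isPGroup')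
    intro z hz
    have hz2 : (z : G) ∈ J ⊓ (P : Subgroup G) := by
      refine ⟨hz.1, ?_⟩
      have := hz.2
      rwa [hPH, Sylow.coe_subtype] at this
    have h2 : ⁅(P : Subgroup G), (P : Subgroup G)⁆ = (⁅(PH : Subgroup H), (PH : Subgroup H)⁆).map H.subtype := by
      rw [map_commutator, hPH, Sylow.coe_subtype, subgroupOf_map_subtype, inf_of_le_left hJP]
    have h3 := hle hz2
    rw [h2] at h3
    obtain ⟨w, hw, hwz⟩ := h3
    exact Subtype.ext hwz ▸ hw
  obtain ⟨S, X, hXn, hXc⟩ := Cfsg.Lib.Transfer.hasNormalPComplement_of_le_frattini PH (J.subgroupOf H) h1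
  haveI := hXn
  obtain ⟨m, hm⟩ := IsPGroup.iff_card.1 S.isPGroup'
  have hXidx : X.index = p ^ m := hXc.symm.index_eq_card.trans hm
  have hXcop : (Nat.card X).Coprime p := by
    have h4 := hXc.index_eq_card
    rw [← h4]
    exact (hp.out.coprime_iff_not_dvd.2 S.not_dvd_index).symm
  set X' := (X.map (J.subgroupOf H).subtype).map H.subtype with hX'
  have hX'J : X' ≤ J := by
    rintro _ ⟨_, ⟨z, -, rfl⟩, rfl⟩
    exact z.2
  have hmem : ∀ z : G, ∀ hz : z ∈ J, (orderOf z).Coprime p → z ∈ X' := fun z hz hco => by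
    let w : J.subgroupOf H := ⟨⟨z, hJH hz⟩, hz⟩
    have hw : orderOf w = orderOf z := by
      rw [← Subgroup.orderOf_coe w, ← Subgroup.orderOf_coe ((w : H))]
    have h5 : w ∈ X := by
      rw [← QuotientGroup.eq_one_iff, ← orderOf_eq_one_iff]
      refine Nat.dvd_one.1 ?_
      have a1 : orderOf (QuotientGroup.mk' X w) ∣ orderOf z := hw ▸ orderOf_map_dvd _ w
      have a2 : orderOf (QuotientGroup.mk' X w) ∣ p ^ m := hXidx ▸ X.index_eq_card ▸ orderOf_dvd_natCard _
      exact (hco.pow_right m) ▸ Nat.dvd_gcd a1 a2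
    exact ⟨(w : H), ⟨w, h5, rfl⟩, rfl⟩
  have hX'c : (Nat.card X').Coprime p := by
    rw [hX', Subgroup.card_map_of_injective H.subtype_injective,
      Subgroup.card_map_of_injective (J.subgroupOf H).subtype_injective]
    exact hXcop
  have hX'n : N ≤ normalizer (X' : Set G) := by
    intro n hn
    have key : ∀ n ∈ N, ∀ z ∈ X', n * z * n⁻¹ ∈ X' := fun n hn z hz => by
      refine hmem _ ((mem_normalizer_iff.1 (hJN hn) z).1 (hX'J hz)) ?_
      have h6 : orderOf (n * z * n⁻¹) = orderOf z :=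
        orderOf_injective (MulAut.conj n).toMonoidHom (MulAut.conj n).injective z
      rw [h6]
      exact hX'c.coprime_dvd_left (Subgroup.orderOf_dvd_natCard _ hz)
    refine mem_normalizer_iff.2 fun z => ⟨key n hn z, fun h => ?_⟩
    simpa [mul_assoc] using key n⁻¹ (N.inv_mem hn) _ h
  have h7 := eq_bot_of_coprime hcore (hX'J.trans hJ) hX'n hX'c
  apply hJp
  refine IsPGroup.of_card (n := m) ?_
  have h8 : Nat.card X = 1 := by
    have h9 : Nat.card X' = 1 := by rw [h7, Subgroup.card_bot]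
    rwa [hX', Subgroup.card_map_of_injective H.subtype_injective,
      Subgroup.card_map_of_injective (J.subgroupOf H).subtype_injective] at h9
  rw [← Nat.card_congr (Subgroup.subgroupOfEquivOfLe hJH).toEquiv, ← X.card_mul_index, h8, one_mul, hXidx]

end Cfsg.Lib.SylowAb
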