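import Mathlib
import Cfsg.Agent.Blocks.SylowAb.Atoms
import Cfsg.Agent.Blocks.SylowNormalize

/-!
# A `p`-element with a small centraliser
-/

set_option autoImplicit false
set_option linter.unusedSectionVars false
set_option linter.style.haveILetI false

namespace Cfsg.Lib.SylowAb

open Subgroup
open scoped Pointwise commutatorElement

universe u

variable {G : Type u} [Group G] [Finite G] {p : ℕ} [hp : Fact p.Prime]

/-- The conclusion. -/
def HasSmall (p : ℕ) (G : Type u) [Group G] : Prop :=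
  ∃ x : G, (∃ k : ℕ, orderOf x = p ^ k) ∧
    (Nat.card (centralizer ({x} : Set G))).factorization p = 2

theorem hasSmall_of_card (P : Sylow p G) (h : Nat.card (P : Subgroup G) = p ^ 2) : HasSmall p G := by
  refine ⟨1, ⟨0, by simp⟩, ?_⟩
  have h1 : centralizer ({(1 : G)} : Set G) = ⊤ := by
    rw [eq_top_iff]
    intro z _
    exact mem_centralizer_iff.2 fun c hc => by rw [Set.mem_singleton_iff.1 hc, one_mul, mul_one]
  rw [h1, Subgroup.card_top]
  rw [P.card_eq_multiplicity] at h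
  exact Nat.pow_right_injective hp.out.two_le h

variable (P : Sylow p G) (hidx : (⁅(P : Subgroup G), (P : Subgroup G)⁆).relIndex (P : Subgroup G) = p ^ 2)

include hidx

theorem derived_le {J : Subgroup G} (hJ : (P : Subgroup G) ≤ normalizer (J : Set G))
    (hne : ¬ J ⊓ (P : Subgroup G) ≤ ⁅(P : Subgroup G), (P : Subgroup G)⁆) :
    ⁅(P : Subgroup G), (P : Subgroup G)⁆ ≤ J ⊓ (P : Subgroup G) := by
  haveI : (J.subgroupOf (P : Subgroup G)).Normal := Subgroup.normal_subgroupOf_of_le_normalizer hJ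
  rw [commutator_index] at hidx
  have h := commutator_le_of_not_le P.isPGroup' hidx (J.subgroupOf (P : Subgroup G)) fun hle =>
    hne fun z hz => by
      rw [← Subgroup.map_subtype_commutator]
      exact ⟨⟨z, hz.2⟩, hle hz.1, rfl⟩
  rw [← Subgroup.map_subtype_commutator]
  rintro _ ⟨z, hz, rfl⟩
  exact ⟨h hz, z.2⟩

theorem relIndex_eq_prime {M : Subgroup G} (hMP : M ≤ (P : Subgroup G))
    (hle : ⁅(P : Subgroup G), (P : Subgroup G)⁆ ≤ M) (hne : ¬ M ≤ ⁅(P : Subgroup G), (P : Subgroup G)⁆)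
    (hneP : ¬ (P : Subgroup G) ≤ M) :
    M.relIndex (P : Subgroup G) = p ∧ (⁅(P : Subgroup G), (P : Subgroup G)⁆).relIndex M = p := by
  have h := relIndex_mul_relIndex _ _ _ hle hMP
  rw [hidx] at h
  have h1 : M.relIndex (P : Subgroup G) ≠ 1 := fun e => hneP (relIndex_eq_one.1 e)
  have h2 : (⁅(P : Subgroup G), (P : Subgroup G)⁆).relIndex M ≠ 1 := fun e => hne (relIndex_eq_one.1 e)
  rcases (Nat.Prime.mul_eq_prime_sq_iff hp.out h2 h1).1 h with ⟨a, b⟩
  exact ⟨b, a⟩

theorem finish (N : Subgroup G) [N.Normal]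
    (hle : ⁅(P : Subgroup G), (P : Subgroup G)⁆ ≤ N ⊓ (P : Subgroup G))
    (hab : ∀ a ∈ N ⊓ (P : Subgroup G), ∀ b ∈ N ⊓ (P : Subgroup G), a * b = b * a)
    (hp' : (N ⊓ (P : Subgroup G)).relIndex (P : Subgroup G) = p) : HasSmall p G := by
  classical
  set M := N.subgroupOf (P : Subgroup G) with hM
  haveI : M.Normal := Subgroup.normal_subgroupOf
  have hMab : ∀ a ∈ M, ∀ b ∈ M, a * b = b * a := fun a ha b hb =>
    Subtype.ext (hab a ⟨ha, a.2⟩ b ⟨hb, b.2⟩)
  have hMle : _root_.commutator (P : Subgroup G) ≤ M := fun z hz => by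
    have h1 : (z : G) ∈ ⁅(P : Subgroup G), (P : Subgroup G)⁆ := by
      rw [← Subgroup.map_subtype_commutator]; exact ⟨z, hz, rfl⟩
    exact (hle h1).1
  have hMidx : M.index = p := by
    rw [inf_relIndex_right] at hp'
    exact hp'
  have h2 : (_root_.commutator (P : Subgroup G)).index = p ^ 2 := by rw [← commutator_index]; exact hidx
  obtain ⟨y, hy⟩ : ∃ y : (P : Subgroup G), y ∉ M := by
    by_contra hall
    push Not at hall
    have : M = ⊤ := eq_top_iff.2 fun z _ => hall z
    rw [this, index_top] at hMidx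
    exact hp.out.ne_one hMidx.symm
  obtain ⟨k, hk⟩ := IsPGroup.iff_orderOf.1 P.isPGroup' y
  refine ⟨(y : G), ⟨k, by rw [Subgroup.orderOf_coe]; exact hk⟩, ?_⟩
  set C := centralizer ({(y : G)} : Set G) with hC
  have hyC : (y : G) ∈ C := mem_centralizer_iff.2 fun c hc => by rw [Set.mem_singleton_iff.1 hc]
  obtain ⟨R⟩ : Nonempty (Sylow p C) := inferInstance
  set R' := (R : Subgroup C).map C.subtype with hR'
  obtain ⟨S, hS⟩ := (R.isPGroup'.map C.subtype).exists_le_sylow
  obtain ⟨g, hg⟩ := MulAction.exists_smul_eq G S P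
  have hR'c : Nat.card R' = p ^ (Nat.card C).factorization p := by
    rw [hR', Subgroup.card_map_of_injective C.subtype_injective, R.card_eq_multiplicity]
  -- lower bound
  have hlow : p ^ 2 ≤ Nat.card R' := by
    rw [← card_centralizer_eq h2 M hMab hMle hMidx hy]
    let f : centralizer ({y} : Set (P : Subgroup G)) →* C :=
      ((P : Subgroup G).subtype.comp (centralizer ({y} : Set (P : Subgroup G))).subtype).codRestrict C
        fun z => mem_centralizer_iff.2 fun c hc => by
          rw [Set.mem_singleton_iff.1 hc]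
          exact congrArg Subtype.val (mem_centralizer_iff.1 z.2 y rfl)
    have hf : Function.Injective f := fun a b h =>
      Subtype.ext (Subtype.ext (congrArg (fun t : C => (t : G)) h))
    have hDp : IsPGroup p (⊤ : Subgroup (centralizer ({y} : Set (P : Subgroup G)))) :=
      (P.isPGroup'.to_subgroup _).to_subgroup ⊤
    obtain ⟨T, hT⟩ := (hDp.map f).exists_le_sylow
    have h3 := Nat.le_of_dvd Nat.card_pos (Subgroup.card_dvd_of_le hT)
    rw [Subgroup.card_map_of_injective hf, Subgroup.card_top, T.card_eq_multiplicity, ← hR'c] at h3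
    exact h3
  -- upper bound
  have hRy : (y : G) ∈ R' := by
    haveI : (zpowers (⟨(y : G), hyC⟩ : C)).Normal := ⟨fun z hz t => by
      obtain ⟨i, rfl⟩ := hz
      have h1 : t * ⟨(y : G), hyC⟩ = ⟨(y : G), hyC⟩ * t :=
        Subtype.ext ((mem_centralizer_iff.1 t.2) (y : G) rfl).symm
      show t * (⟨(y : G), hyC⟩ : C) ^ i * t⁻¹ ∈ zpowers (⟨(y : G), hyC⟩ : C)
      rw [((show Commute t ⟨(y : G), hyC⟩ from h1).zpow_right i).eq, mul_inv_cancel_right]
      exact zpow_mem (mem_zpowers _) i⟩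
    have h1 : IsPGroup p (zpowers (⟨(y : G), hyC⟩ : C)) :=
      IsPGroup.of_card ((Nat.card_zpowers _).trans (by
        rw [Subgroup.orderOf_mk, Subgroup.orderOf_coe]; exact hk))
    have h3 := R.is_maximal' (R.isPGroup'.to_sup_of_normal_right h1) le_sup_left
    exact ⟨⟨(y : G), hyC⟩, h3 ▸ mem_sup_right (mem_zpowers _), rfl⟩
  have hmem : ∀ z ∈ R', g * z * g⁻¹ ∈ (P : Subgroup G) := fun z hz => by
    rw [← hg]; exact ⟨z, hS hz, rfl⟩
  let y' : (P : Subgroup G) := ⟨g * y * g⁻¹, hmem _ hRy⟩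
  have hy' : y' ∉ M := fun h => hy (show (y : G) ∈ N by
    have := ‹N.Normal›.conj_mem _ (show g * (y : G) * g⁻¹ ∈ N from h) g⁻¹
    simpa [mul_assoc] using this)
  have hup : Nat.card R' ≤ p ^ 2 := by
    rw [← card_centralizer_eq h2 M hMab hMle hMidx hy']
    refine Nat.card_le_card_of_injective (fun z : R' =>
      (⟨⟨g * (z : G) * g⁻¹, hmem _ z.2⟩, mem_centralizer_iff.2 fun c hc => by
        rw [Set.mem_singleton_iff.1 hc]
        apply Subtype.ext
        obtain ⟨w, -, hw⟩ := z.2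
        have h4 : (y : G) * (z : G) = (z : G) * y := by
          rw [← hw]
          exact mem_centralizer_iff.1 w.2 (y : G) rfl
        show g * y * g⁻¹ * (g * (z : G) * g⁻¹) = g * (z : G) * g⁻¹ * (g * y * g⁻¹)
        calc g * y * g⁻¹ * (g * (z : G) * g⁻¹) = g * ((y : G) * (z : G)) * g⁻¹ := by group
          _ = g * ((z : G) * y) * g⁻¹ := by rw [h4]
          _ = _ := by group⟩ : centralizer ({y'} : Set (P : Subgroup G)))) ?_
    intro a b h
    have h5 := congrArg (fun t : centralizer ({y'} : Set (P : Subgroup G)) => ((t : (P : Subgroup G)) : G)) h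
    exact Subtype.ext (mul_left_cancel (mul_right_cancel h5))
  have h6 := le_antisymm hup hlow
  rw [hR'c] at h6
  exact Nat.pow_right_injective hp.out.two_le h6

/-- The nonabelian minimal normal subgroup case. -/
theorem of_minNA (hcore : Cfsg.pPrimeCore p G = ⊥) (hne' : ⁅(P : Subgroup G), (P : Subgroup G)⁆ ≠ ⊥)
    (hall : ∀ N : Subgroup G, N.Normal → N ≠ ⊥ →
      (∀ M : Subgroup G, M.Normal → M ≤ N → M = ⊥ ∨ M = N) → MinNA N)
    (hnas : ¬ ∃ S : Subgroup G, S.Normal ∧ IsSimpleGroup S ∧ ¬ IsMulCommutative S ∧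
      centralizer (S : Set G) = ⊥) (N : Subgroup G) [hN : N.Normal] (hm : MinNA N) : HasSmall p G := by
  classical
  obtain ⟨T, hT⟩ := exists_atom (N := N) hm.ne
  have hTp := hm.atom_not_isPGroup (p := p) hT
  have hpN : ∀ {J V : Subgroup G}, V ≤ J → ¬ IsPGroup p V → ¬ IsPGroup p J := fun h h1 h2 =>
    h1 (h2.to_le h)
  -- two disjoint normalised subgroups are impossible
  have htwo : ∀ {J₁ J₂ N₂ : Subgroup G} [N₂.Normal], J₁ ≤ N → N ≤ normalizer (J₁ : Set G) →
      (P : Subgroup G) ≤ normalizer (J₁ : Set G) → ¬ IsPGroup p J₁ →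
      J₂ ≤ N₂ → N₂ ≤ normalizer (J₂ : Set G) →
      (P : Subgroup G) ≤ normalizer (J₂ : Set G) → ¬ IsPGroup p J₂ → J₁ ⊓ J₂ = ⊥ → False := by
    intro J₁ J₂ N₂ _ a1 a2 a3 a4 b1 b2 b3 b4 hd
    have h1 := derived_le P hidx a3 (not_le_derived hcore P a1 a2 a3 a4)
    have h2 := derived_le P hidx b3 (not_le_derived hcore P b1 b2 b3 b4)
    exact hne' (le_bot_iff.1 (hd ▸ le_inf (h1.trans inf_le_left) (h2.trans inf_le_left)))
  -- `T` is not normal
  have hTn : ¬ T.Normal := by
    intro hTn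
    have hTN : T = N := by
      rcases hm.min T hTn hT.le with h | h
      · exact absurd h hT.ne
      · exact h
    subst hTN
    refine hnas ⟨T, hN, ?_, fun hc => hm.na fun a ha b hb =>
      congrArg Subtype.val (hc.is_comm.comm ⟨a, ha⟩ ⟨b, hb⟩), ?_⟩
    · haveI : Nontrivial T := (Subgroup.nontrivial_iff_ne_bot T).2 hm.ne
      refine ⟨fun X hX => ?_⟩
      have hXn : T ≤ normalizer ((X.map T.subtype : Subgroup G) : Set G) := by
        intro t ht
        have key : ∀ t ∈ T, ∀ z ∈ X.map T.subtype, t * z * t⁻¹ ∈ X.map T.subtype := by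
          rintro t ht _ ⟨z, hz, rfl⟩
          exact ⟨⟨t, ht⟩ * z * ⟨t, ht⟩⁻¹, hX.conj_mem z hz _, rfl⟩
        refine mem_normalizer_iff.2 fun z => ⟨key t ht z, fun h => ?_⟩
        simpa [mul_assoc] using key t⁻¹ (T.inv_mem ht) _ h
      rcases hT.min _ (map_subtype_le _) hXn with h | h
      · exact Or.inl ((Subgroup.map_eq_bot_iff_of_injective _ T.subtype_injective).1 h)
      · refine Or.inr (Subgroup.map_injective T.subtype_injective ?_)
        rw [h, ← MonoidHom.range_eq_map, range_subtype]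
    · by_contra hC
      obtain ⟨N₂, hle, hn2, hne2, hmin2⟩ := Cfsg.Lib.Coprime.exists_minimal_normal
        (inferInstance : (centralizer (T : Set G)).Normal) hC
      haveI := hn2
      have hm2 := hall N₂ hn2 hne2 hmin2
      refine htwo (J₁ := T) (N₂ := N₂) (J₂ := N₂) le_rfl Subgroup.le_normalizer
        Subgroup.le_normalizer_of_normal hTp le_rfl Subgroup.le_normalizer
        Subgroup.le_normalizer_of_normal hm2.not_isPGroup ?_
      rw [eq_bot_iff, ← hm.center_eq_bot]
      exact inf_le_inf_left _ hle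
  -- `P` is transitive on the atoms
  set Γ : Set (Subgroup G) := {V | ∃ z ∈ (P : Subgroup G), V = cj z T} with hΓ
  have hΓsub : Γ ⊆ orb T := by
    rintro _ ⟨z, -, rfl⟩
    exact ⟨z, rfl⟩
  have hΓT : T ∈ Γ := ⟨1, one_mem _, (cj_one T).symm⟩
  have hΓst : ∀ z ∈ (P : Subgroup G), ∀ V ∈ Γ, cj z V ∈ Γ := by
    rintro z hz _ ⟨w, hw, rfl⟩
    exact ⟨z * w, (P : Subgroup G).mul_mem hz hw, (cj_mul z w T).symm⟩
  have htrans : ∀ V ∈ orb T, V ∈ Γ := by
    by_contra hcon
    push Not at hcon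
    obtain ⟨V, hV, hVΓ⟩ := hcon
    set Δ := orb T \ Γ with hΔ
    have hΔsub : Δ ⊆ orb T := Set.diff_subset
    have hVΔ : V ∈ Δ := ⟨hV, hVΓ⟩
    refine htwo (N₂ := N) (hT.sSup_le hΓsub) (hT.norm_sSup hΓsub)
      (fun z hz => norm_sSup_of_stable (hΓst z hz)) (hpN (le_sSup hΓT) hTp)
      (hT.sSup_le hΔsub) (hT.norm_sSup hΔsub) (fun z hz => norm_sSup_of_stable ?_)
      (hpN (le_sSup hVΔ) (hm.atom_not_isPGroup (hT.of_mem hV)))
      (hm.inf_sSup hT hΓsub hΔsub fun W hW hW2 => hW2.2 hW)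
    rintro W ⟨⟨g, hg⟩, hW2⟩
    refine ⟨⟨z * g, by rw [← hg]; exact cj_mul z g T⟩, fun h => hW2 ?_⟩
    have := hΓst z⁻¹ ((P : Subgroup G).inv_mem hz) _ h
    rwa [← cj_mul, inv_mul_cancel, cj_one] at this
  set M := N ⊓ (P : Subgroup G) with hMdef
  have hPN : (P : Subgroup G) ≤ normalizer (N : Set G) := Subgroup.le_normalizer_of_normal
  have hnle : ¬ M ≤ ⁅(P : Subgroup G), (P : Subgroup G)⁆ :=
    not_le_derived hcore P le_rfl Subgroup.le_normalizer hPN hm.not_isPGroup
  have hle := derived_le P hidx hPN hnle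
  have hMT : M ≤ normalizer (T : Set G) := inf_le_left.trans hT.norm
  have hPT : ¬ (P : Subgroup G) ≤ normalizer (T : Set G) := by
    intro h
    apply hTn
    have hsingle : ∀ V ∈ orb T, V = T := fun V hV => by
      obtain ⟨z, hz, rfl⟩ := htrans V hV
      exact cj_eq_of_mem (h hz)
    have hTN : N ≤ T := by
      rw [← hm.sSup_orb hT]
      exact sSup_le fun V hV => (hsingle V hV).le
    rw [le_antisymm hT.le hTN]
    exact hN
  obtain ⟨hidxM, hidxD⟩ := relIndex_eq_prime P hidx inf_le_right hle hnle fun h => hPT (h.trans hMT)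
  refine finish P hidx N hle ?_ hidxM
  obtain ⟨y, hyP, hyT⟩ := SetLike.not_le_iff_exists.1 hPT
  let X := (P : Subgroup G)
  set Mx := N.subgroupOf (P : Subgroup G) with hMx
  haveI : Mx.Normal := Subgroup.normal_subgroupOf
  have hMxidx : Mx.index = p := by
    rw [inf_relIndex_right] at hidxM
    exact hidxM
  let Y : (P : Subgroup G) := ⟨y, hyP⟩
  have hYp : Y ^ p ∈ Mx := by
    have h := Mx.pow_index_mem Y
    rwa [hMxidx] at h
  have hne_i : ∀ i : ℕ, 0 < i → i < p → cj (y ^ i) T ≠ T := by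
    intro i hi0 hip h
    apply hyT
    have h1 : y ^ i ∈ normalizer (T : Set G) := mem_normalizer_of_cj h
    have h2 : y ^ p ∈ normalizer (T : Set G) := hMT ⟨hYp, (Y ^ p).2⟩
    have h3 : i.Coprime p := (hp.out.coprime_iff_not_dvd.2 fun hd => by
      have := Nat.le_of_dvd hi0 hd; omega).symm
    have h4 : y ^ (1 : ℤ) = (y ^ i) ^ (Nat.gcdA i p) * (y ^ p) ^ (Nat.gcdB i p) := by
      rw [← zpow_natCast y i, ← zpow_natCast y p, ← zpow_mul, ← zpow_mul, ← zpow_add,
        ← Nat.gcd_eq_gcd_ab, h3]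
      rfl
    rw [← zpow_one y, h4]
    exact (normalizer (T : Set G)).mul_mem (zpow_mem h1 _) (zpow_mem h2 _)
  -- the quotient by the other atoms
  set R := sSup (orb T \ {T}) with hR
  have hRsub : orb T \ {T} ⊆ orb T := Set.diff_subset
  have hRN : R ≤ N := hT.sSup_le hRsub
  haveI : (R.subgroupOf N).Normal := Subgroup.normal_subgroupOf_of_le_normalizer (hT.norm_sSup hRsub)
  let q := QuotientGroup.mk' (R.subgroupOf N)
  let ι : Mx →* N :=
    { toFun := fun m => ⟨((m : (P : Subgroup G)) : G), m.2⟩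
      map_one' := rfl
      map_mul' := fun _ _ => rfl }
  set A := (q.comp ι).range with hA
  let ψ : Mx →* Abelianization A := Abelianization.of.comp (q.comp ι).rangeRestrict
  let f : Mx →* Abelianization A :=
    ∏ i ∈ Finset.range p, ψ.comp (MulAut.conjNormal (Y ^ i)).toMonoidHom
  have hf : ∀ m, f m = ∏ i ∈ Finset.range p, ψ (MulAut.conjNormal (Y ^ i) m) := fun m =>
    MonoidHom.finsetProd_apply _ _ m
  have hperiod : ∀ m : Mx, ψ (MulAut.conjNormal (Y ^ p) m) = ψ m := fun m => by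
    have h1 : (MulAut.conjNormal (Y ^ p) m : Mx) = ⟨Y ^ p, hYp⟩ * m * ⟨Y ^ p, hYp⟩⁻¹ :=
      Subtype.ext rfl
    rw [h1, map_mul, map_mul, map_inv, mul_comm (ψ _) (ψ m), mul_inv_cancel_right]
  have hshift : ∀ m : Mx, f (MulAut.conjNormal Y m) = f m := fun m => by
    rw [hf, hf]
    have h1 : ∀ i, ψ (MulAut.conjNormal (Y ^ i) (MulAut.conjNormal Y m)) =
        ψ (MulAut.conjNormal (Y ^ (i + 1)) m) := fun i => by
      rw [pow_succ, map_mul, MulAut.mul_apply]
    simp only [h1]
    have key : ∀ (g : ℕ → Abelianization A) (n : ℕ), g n = g 0 →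
        ∏ i ∈ Finset.range n, g (i + 1) = ∏ i ∈ Finset.range n, g i := fun g n hg => by
      rcases Nat.eq_zero_or_pos n with rfl | hn
      · simp
      obtain ⟨k, rfl⟩ : ∃ k, n = k + 1 := ⟨n - 1, by omega⟩
      rw [Finset.prod_range_succ, Finset.prod_range_succ' g, hg]
    refine key (fun i => ψ (MulAut.conjNormal (Y ^ i) m)) p ?_
    show ψ (MulAut.conjNormal (Y ^ p) m) = ψ (MulAut.conjNormal (Y ^ 0) m)
    rw [hperiod, pow_zero, map_one]
    rfl
  have hsurj : Function.Surjective f := by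
    intro a
    obtain ⟨⟨_, ⟨m, rfl⟩⟩, rfl⟩ := QuotientGroup.mk_surjective a
    -- split off the component in `T`
    have hmN : ((m : (P : Subgroup G)) : G) ∈ T ⊔ R := by
      have h1 : sSup (orb T) ≤ T ⊔ R := sSup_le fun V hV => by
        by_cases hVT : V = T
        · exact hVT ▸ le_sup_left
        · exact le_trans (le_sSup (show V ∈ orb T \ {T} from ⟨hV, hVT⟩)) le_sup_right
      exact h1 ((hm.sSup_orb hT).symm ▸ m.2)
    rw [← SetLike.mem_coe, Subgroup.coe_mul_of_left_le_normalizer_right T R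
      (hT.le.trans (hT.norm_sSup hRsub)), Set.mem_mul] at hmN
    obtain ⟨t, ht, r, hr, htr⟩ := hmN
    have hdisj : T ⊓ R = ⊥ := by
      have h1 := hm.inf_sSup hT (Γ := {T}) (Set.singleton_subset_iff.2 mem_orb_self) hRsub
        fun V hV hV2 => hV2.2 hV
      rwa [sSup_singleton] at h1
    have hcomm : ∀ s ∈ T, r * s = s * r := by
      intro s hs
      have h1 : R ≤ centralizer (T : Set G) := sSup_le fun W hW => fun w hw =>
        mem_centralizer_iff.2 fun v hv => hT.commute (hT.of_mem hW.1) (fun e => hW.2 e.symm) hv hw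
      exact (mem_centralizer_iff.1 (h1 hr) s hs).symm
    have htP : t ∈ (P : Subgroup G) := by
      set S₀ := T ⊓ (P : Subgroup G) with hS₀
      set m' := ((m : (P : Subgroup G)) : G) with hm'
      have hnorm : t ∈ normalizer (S₀ : Set G) := by
        have hmS : m' ∈ normalizer (S₀ : Set G) := mem_normalizer_iff.2 fun z => by
          rw [hS₀, mem_inf, mem_inf, mem_normalizer_iff.1 (hT.norm m.2) z,
            mem_normalizer_iff.1 (Subgroup.le_normalizer (m : (P : Subgroup G)).2) z]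
          exact Iff.rfl
        have hrS : r ∈ normalizer (S₀ : Set G) := centralizer_le_normalizer _
          (mem_centralizer_iff.2 fun s hs => (hcomm s hs.1).symm)
        rw [show t = m' * r⁻¹ from eq_mul_inv_of_mul_eq htr]
        exact (normalizer (S₀ : Set G)).mul_mem hmS ((normalizer (S₀ : Set G)).inv_mem hrS)
      obtain ⟨e, he⟩ := IsPGroup.iff_orderOf.1 P.isPGroup' (m : (P : Subgroup G))
      have htp : t ^ (p ^ e) = 1 := by
        have h1 : m' ^ (p ^ e) = 1 := by
          rw [← he, hm', ← Subgroup.orderOf_coe]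
          exact pow_orderOf_eq_one _
        rw [← htr, (show Commute t r from (hcomm t ht).symm).mul_pow] at h1
        have h2 : t ^ (p ^ e) ∈ T ⊓ R := ⟨T.pow_mem ht _, by
          rw [eq_inv_of_mul_eq_one_left h1]
          exact R.inv_mem (R.pow_mem hr _)⟩
        rwa [hdisj, mem_bot] at h2
      obtain ⟨e', -, he'⟩ := (Nat.dvd_prime_pow hp.out).1 (orderOf_dvd_of_pow_eq_one htp)
      have hK : IsPGroup p (S₀ ⊔ zpowers t : Subgroup G) := by
        refine IsPGroup.to_sup_of_normal_left' (P.isPGroup'.to_le inf_le_right) ?_ (zpowers_le.2 hnorm)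
        exact IsPGroup.of_card ((Nat.card_zpowers t).trans he')
      have hKT : S₀ ⊔ zpowers t ≤ T := sup_le inf_le_left (zpowers_le.2 ht)
      -- `S₀` has index prime to `p` in `T`
      have hdvd : S₀.relIndex T ∣ (P : Subgroup G).relIndex N := by
        have hTM : M ≤ normalizer (T : Set G) := hMT
        have h1 := Cfsg.Lib.Coprime.card_sup_mul_card_inf (G := G) (N := T) (H := M) hTM
        have h2 : Nat.card M * M.relIndex (M ⊔ T) = Nat.card ↥(M ⊔ T) := by
          rw [← relIndex_bot_left, relIndex_mul_relIndex _ _ _ bot_le le_sup_left, relIndex_bot_left]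
        have h3 : Nat.card S₀ * S₀.relIndex T = Nat.card T := by
          rw [← relIndex_bot_left, relIndex_mul_relIndex _ _ _ bot_le inf_le_left, relIndex_bot_left]
        have h4 : T ⊓ M = S₀ := by rw [hMdef, hS₀, ← inf_assoc, inf_eq_left.2 hT.le]
        rw [sup_comm] at h2
        rw [h4, ← h2, ← h3] at h1
        have h5 : S₀.relIndex T = M.relIndex (T ⊔ M) := by
          have hc : 0 < Nat.card M * Nat.card S₀ := Nat.mul_pos Nat.card_pos Nat.card_pos
          refine (Nat.eq_of_mul_eq_mul_left hc ?_).symm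
          linarith
        have h6 : M.relIndex (T ⊔ M) * (T ⊔ M).relIndex N = M.relIndex N :=
          relIndex_mul_relIndex _ _ _ le_sup_right (sup_le hT.le inf_le_left)
        rw [h5]
        refine (Dvd.intro _ h6).trans ?_
        rw [hMdef, inf_relIndex_left]
      have hndvd : ¬ p ∣ (P : Subgroup G).relIndex N := by
        intro hd
        rw [← Cfsg.Lib.Blocks.SylowNorm.relIndex_sup_normal] at hd
        exact P.not_dvd_index (hd.trans (Dvd.intro _ (relIndex_mul_index le_sup_left)))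
      obtain ⟨j, hj⟩ : ∃ j, S₀.relIndex (S₀ ⊔ zpowers t) = p ^ j := by
        obtain ⟨i, hi⟩ := IsPGroup.iff_card.1 hK
        obtain ⟨j, -, hj⟩ := (Nat.dvd_prime_pow hp.out).1
          (hi ▸ Subgroup.relIndex_dvd_card S₀ (S₀ ⊔ zpowers t))
        exact ⟨j, hj⟩
      have hj0 : j = 0 := by
        by_contra h0
        apply hndvd
        refine dvd_trans ?_ hdvd
        rw [← relIndex_mul_relIndex S₀ _ T le_sup_left hKT, hj]
        exact dvd_mul_of_dvd_left (dvd_pow_self p h0) _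
      rw [hj0, pow_zero, relIndex_eq_one] at hj
      exact (hj (mem_sup_right (mem_zpowers t))).2
    let t' : Mx := ⟨⟨t, htP⟩, hT.le ht⟩
    refine ⟨t', ?_⟩
    rw [hf, Finset.prod_eq_single 0 ?_ (fun h => absurd (Finset.mem_range.2 hp.out.pos) h)]
    · simp only [pow_zero, map_one, MulAut.one_apply]
      show Abelianization.of ((q.comp ι).rangeRestrict t') = Abelianization.of _
      congr 1
      apply Subtype.ext
      show q (ι t') = q (ι m)
      refine QuotientGroup.eq.2 ?_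
      rw [mem_subgroupOf]
      show t⁻¹ * ((m : (P : Subgroup G)) : G) ∈ R
      rw [← htr, inv_mul_cancel_left]
      exact hr
    · intro i hi hi0
      have h1 : cj (y ^ i) T ∈ orb T \ {T} :=
        ⟨⟨y ^ i, rfl⟩, hne_i i (Nat.pos_of_ne_zero hi0) (Finset.mem_range.1 hi)⟩
      have h2 : y ^ i * t * (y ^ i)⁻¹ ∈ R :=
        le_sSup h1 (mem_cj.2 (by simpa [mul_assoc] using ht))
      show Abelianization.of ((q.comp ι).rangeRestrict _) = 1
      rw [show (q.comp ι).rangeRestrict (MulAut.conjNormal (Y ^ i) t') = 1 from Subtype.ext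
        ((QuotientGroup.eq_one_iff _).2 (mem_subgroupOf.2 h2)), map_one]
  -- the derived group lies in the kernel
  set D : Subgroup (P : Subgroup G) := f.ker.map Mx.subtype with hD
  have hDM : ∀ m : Mx, f m = 1 → (m : (P : Subgroup G)) ∈ D := fun m h => ⟨m, h, rfl⟩
  have htop : Mx ⊔ zpowers Y = ⊤ := by
    have h1 := relIndex_mul_index (le_sup_left : Mx ≤ Mx ⊔ zpowers Y)
    rcases (Nat.dvd_prime hp.out).1 (hMxidx ▸ index_dvd_of_le (le_sup_left : Mx ≤ Mx ⊔ zpowers Y)) with h | h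
    · exact index_eq_one.1 h
    · exfalso
      rw [h, hMxidx] at h1
      have h3 : Mx.relIndex (Mx ⊔ zpowers Y) = 1 :=
        Nat.eq_of_mul_eq_mul_right hp.out.pos (by rw [h1, one_mul])
      exact hyT (hMT ⟨relIndex_eq_one.1 h3 (mem_sup_right (mem_zpowers Y)), hyP⟩)
  haveI : D.Normal := by
    rw [← normalizer_eq_top_iff, eq_top_iff, ← htop, sup_le_iff]
    refine ⟨fun n hn => mem_normalizer_iff.2 fun z => ?_, zpowers_le.2 (mem_normalizer_iff.2 fun z => ?_)⟩
    · constructor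
      · rintro ⟨m, hm', rfl⟩
        refine hDM (⟨n, hn⟩ * m * ⟨n, hn⟩⁻¹) ?_
        rw [map_mul, map_mul, MonoidHom.mem_ker.1 hm', mul_one, map_inv, mul_inv_cancel]
      · rintro ⟨m, hm', hmz⟩
        have : z = ((⟨n, hn⟩⁻¹ * m * ⟨n, hn⟩ : Mx) : (P : Subgroup G)) := by
          show z = n⁻¹ * (Mx.subtype m) * n
          rw [hmz]; group
        rw [this]
        refine hDM _ ?_
        rw [map_mul, map_mul, MonoidHom.mem_ker.1 hm', mul_one, map_inv, inv_mul_cancel]
    · constructor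
      · rintro ⟨m, hm', rfl⟩
        refine hDM (MulAut.conjNormal Y m) ?_
        rw [hshift]
        exact hm'
      · rintro ⟨m, hm', hmz⟩
        have hz : z ∈ Mx := by
          have := ‹Mx.Normal›.conj_mem _ m.2 Y⁻¹
          rwa [show (m : (P : Subgroup G)) = Y * z * Y⁻¹ from hmz, show Y⁻¹ * (Y * z * Y⁻¹) * Y⁻¹⁻¹ = z by group] at this
        refine hDM ⟨z, hz⟩ ?_
        rw [← hshift, show (MulAut.conjNormal Y ⟨z, hz⟩ : Mx) = m from Subtype.ext hmz.symm]
        exact hm'
  have hDle : _root_.commutator (P : Subgroup G) ≤ D := by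
    refine commutator_le_of_gen htop (fun a ha b hb => ?_) fun a ha => ?_
    · refine hDM ⁅(⟨a, ha⟩ : Mx), ⟨b, hb⟩⁆ ?_
      rw [map_commutatorElement, commutatorElement_eq_one_iff_mul_comm]
      exact mul_comm _ _
    · have h1 : (⟨a, ha⟩ * MulAut.conjNormal Y (⟨a, ha⟩⁻¹ : Mx) : Mx) =
          (⟨⁅a, Y⁆, by
            rw [commutatorElement_def, show a * Y * a⁻¹ * Y⁻¹ = a * (Y * a⁻¹ * Y⁻¹) by group]
            exact Mx.mul_mem ha (‹Mx.Normal›.conj_mem _ (Mx.inv_mem ha) Y)⟩ : Mx) := by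
        apply Subtype.ext
        show a * (Y * a⁻¹ * Y⁻¹) = ⁅a, Y⁆
        rw [commutatorElement_def]; group
      have h2 := hDM (⟨a, ha⟩ * MulAut.conjNormal Y (⟨a, ha⟩⁻¹ : Mx))
        (by rw [map_mul, hshift, map_inv, mul_inv_cancel])
      rw [h1] at h2
      exact h2
  have hker : f.ker.index ∣ p := by
    have h1 : (_root_.commutator (P : Subgroup G)).subgroupOf Mx ≤ f.ker := fun z hz => by
      obtain ⟨m, hm', hmz⟩ := hDle hz
      exact Subtype.ext hmz ▸ hm'
    have h2 := index_dvd_of_le h1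
    have h3 : ((_root_.commutator (P : Subgroup G)).subgroupOf Mx).index = p := by
      show (_root_.commutator (P : Subgroup G)).relIndex Mx = p
      rw [← relIndex_map_map_of_injective _ _ (P : Subgroup G).subtype_injective,
        Subgroup.map_subtype_commutator, hMx, subgroupOf_map_subtype]
      exact hidxD
    rwa [h3] at h2
  have hAab : ∀ a b : A, a * b = b * a := by
    refine comm_of_index_dvd (p := p) ?_ ?_
    · exact (P.isPGroup'.to_subgroup Mx).of_surjective (q.comp ι).rangeRestrict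
        (q.comp ι).rangeRestrict_surjective
    · rw [Subgroup.index_ker, MonoidHom.range_eq_top.2 hsurj, Subgroup.card_top] at hker
      rw [Subgroup.index_eq_card]
      exact hker
  -- commutators of `N ⊓ P` lie in every quotient kernel
  intro a ha b hb
  rw [← commutatorElement_eq_one_iff_mul_comm, ← mem_bot, ← hm.center_eq_bot]
  have hcN : ⁅a, b⁆ ∈ N := by
    rw [commutatorElement_def]
    exact N.mul_mem (N.mul_mem (N.mul_mem ha.1 hb.1) (N.inv_mem ha.1)) (N.inv_mem hb.1)
  refine ⟨hcN, ?_⟩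
  suffices h : ∀ V ∈ orb T, ⁅a, b⁆ ∈ centralizer (V : Set G) by
    have h1 : sSup (orb T) ≤ centralizer ({⁅a, b⁆} : Set G) := sSup_le fun V hV => fun v hv =>
      mem_centralizer_iff.2 fun c hc => by
        rw [Set.mem_singleton_iff.1 hc]
        exact (mem_centralizer_iff.1 (h V hV) v hv).symm
    rw [hm.sSup_orb hT] at h1
    exact mem_centralizer_iff.2 fun n hn => (mem_centralizer_iff.1 (h1 hn) _ rfl).symm
  intro V hV
  obtain ⟨z, hz, rfl⟩ := htrans V hV
  have key : ∀ a b : G, a ∈ M → b ∈ M → ⁅a, b⁆ ∈ R := fun a b ha hb => by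
    have h1 := hAab ⟨_, ⟨⟨⟨a, ha.2⟩, ha.1⟩, rfl⟩⟩ ⟨_, ⟨⟨⟨b, hb.2⟩, hb.1⟩, rfl⟩⟩
    have h2 := congrArg Subtype.val h1
    change q (ι _) * q (ι _) = q (ι _) * q (ι _) at h2
    rw [← commutatorElement_eq_one_iff_mul_comm, ← map_commutatorElement] at h2
    exact mem_subgroupOf.1 ((QuotientGroup.eq_one_iff _).1 h2)
  have hconjM : ∀ c ∈ M, z⁻¹ * c * z ∈ M := fun c hc =>
    ⟨by simpa using hN.conj_mem c hc.1 z⁻¹,
      (P : Subgroup G).mul_mem ((P : Subgroup G).mul_mem ((P : Subgroup G).inv_mem hz) hc.2) hz⟩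
  have h3 : z⁻¹ * ⁅a, b⁆ * z ∈ R := by
    have := key _ _ (hconjM a ha) (hconjM b hb)
    rw [show z⁻¹ * ⁅a, b⁆ * z = ⁅z⁻¹ * a * z, z⁻¹ * b * z⁆ by simp only [commutatorElement_def]; group]
    exact this
  refine mem_centralizer_iff.2 fun v hv => ?_
  have h4 : z⁻¹ * v * z ∈ T := mem_cj.1 hv
  have h5 : R ≤ centralizer (T : Set G) := sSup_le fun W hW => fun w hw =>
    mem_centralizer_iff.2 fun u hu => hT.commute (hT.of_mem hW.1) (fun e => hW.2 e.symm) hu hw
  have h6 := mem_centralizer_iff.1 (h5 h3) _ h4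
  calc v * ⁅a, b⁆ = z * ((z⁻¹ * v * z) * (z⁻¹ * ⁅a, b⁆ * z)) * z⁻¹ := by group
    _ = z * ((z⁻¹ * ⁅a, b⁆ * z) * (z⁻¹ * v * z)) * z⁻¹ := by rw [h6]
    _ = ⁅a, b⁆ * v := by group

/-- **Derived index `p ^ 2` gives a small centraliser.** -/
theorem hasSmall_of_relIndex (hcore : Cfsg.pPrimeCore p G = ⊥)
    (hcore' : (⁅(P : Subgroup G), (P : Subgroup G)⁆).normalCore = ⊥)
    (hnas : ¬ ∃ S : Subgroup G, S.Normal ∧ IsSimpleGroup S ∧ ¬ IsMulCommutative S ∧
      centralizer (S : Set G) = ⊥) : HasSmall p G := by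
  classical
  by_cases hne' : ⁅(P : Subgroup G), (P : Subgroup G)⁆ = ⊥
  · refine hasSmall_of_card P ?_
    rw [hne', relIndex_bot_left] at hidx
    exact hidx
  by_cases hab : ∃ N : Subgroup G, N.Normal ∧ N ≠ ⊥ ∧
      (∀ M : Subgroup G, M.Normal → M ≤ N → M = ⊥ ∨ M = N) ∧ ∀ a ∈ N, ∀ b ∈ N, a * b = b * a
  · obtain ⟨N, hN, hne, hmin, hc⟩ := hab
    haveI := hN
    haveI : Group.IsSolvable N := Group.isSolvable_of_comm fun a b => Subtype.ext (hc a a.2 b b.2)
    obtain ⟨-, w, hw, hNw, -⟩ := Cfsg.Lib.Coprime.minimal_normal_solvable inferInstance hne hmin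
    have hwp : w = p := by
      by_contra hwp
      haveI := Fact.mk hw
      obtain ⟨m, hm⟩ := IsPGroup.iff_card.1 hNw
      have h1 : N ≤ Cfsg.pPrimeCore p G := Cfsg.Lib.Components.le_pPrimeCore (by
        rw [hm]; exact ((Nat.coprime_primes hw hp.out).2 hwp).pow_left m)
      exact hne (le_bot_iff.1 (hcore ▸ h1))
    subst hwp
    have hNP : N ≤ (P : Subgroup G) := by
      have h2 := P.is_maximal' (P.isPGroup'.to_sup_of_normal_right hNw) le_sup_left
      exact h2 ▸ le_sup_right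
    have hnle : ¬ N ⊓ (P : Subgroup G) ≤ ⁅(P : Subgroup G), (P : Subgroup G)⁆ := fun h => by
      rw [inf_eq_left.2 hNP] at h
      exact hne (le_bot_iff.1 (hcore' ▸ (Subgroup.normal_le_normalCore.2 h)))
    have hle := derived_le P hidx Subgroup.le_normalizer_of_normal hnle
    have hnP : ¬ (P : Subgroup G) ≤ N ⊓ (P : Subgroup G) := fun h => hne' (by
      rw [Subgroup.commutator_eq_bot_iff_le_centralizer]
      exact fun a ha => mem_centralizer_iff.2 fun b hb => hc b (h hb).1 a (h ha).1)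
    exact finish P hidx N hle (fun a ha b hb => hc a ha.1 b hb.1)
      (relIndex_eq_prime P hidx inf_le_right hle hnle hnP).1
  · have hall : ∀ N : Subgroup G, N.Normal → N ≠ ⊥ →
        (∀ M : Subgroup G, M.Normal → M ≤ N → M = ⊥ ∨ M = N) → MinNA N :=
      fun N h1 h2 h3 => ⟨h2, h3, fun h4 => hab ⟨N, h1, h2, h3, h4⟩⟩
    have htop : (⊤ : Subgroup G) ≠ ⊥ := fun h => hne' (le_bot_iff.1 (h ▸ le_top))
    obtain ⟨N, -, hN, hne, hmin⟩ := Cfsg.Lib.Coprime.exists_minimal_normal inferInstance htop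
    haveI := hN
    exact of_minNA P hidx hcore hne' hall hnas N (hall N hN hne hmin)

end Cfsg.Lib.SylowAb
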